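import Mathlib
import Groth.Prelude.Def_Pi1
import Groth.Agent.Lib.Helper8.RatSec.Main

/-!
# A dominant morphism of varieties over an algebraically closed field of characteristic zero
which is injective on rational points, with normal target, is an open immersion (helper8; S13425)
-/

set_option autoImplicit false
universe u
open CategoryTheory CategoryTheory.Limits AlgebraicGeometry TopologicalSpace Opposite

namespace Groth.Agent.H8.InjOpen

lemma residue_bijective_of_isField (R : Type u) [CommRing R] [IsLocalRing R] (h : IsField R) :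
    Function.Bijective (IsLocalRing.residue R) := by
  refine ⟨?_, IsLocalRing.residue_surjective⟩
  rw [injective_iff_map_eq_zero]
  intro r hr
  rw [IsLocalRing.residue_eq_zero_iff] at hr
  by_contra hne
  obtain ⟨s, hs⟩ := h.mul_inv_cancel hne
  exact mem_nonunits_iff.mp ((IsLocalRing.mem_maximalIdeal r).mp hr) (isUnit_iff_exists_inv.mpr ⟨s, hs⟩)

theorem stalkMap_bijective_of_residueFieldMap {X Y : Scheme.{u}} (f : X ⟶ Y) (x : X)
    (hX : IsField (X.presheaf.stalk x)) (hY : IsField (Y.presheaf.stalk (f x)))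
    (hm : Function.Bijective (f.residueFieldMap x).hom) :
    Function.Bijective (f.stalkMap x).hom := by
  have hρX : Function.Bijective (X.residue x).hom :=
    residue_bijective_of_isField (X.presheaf.stalk x) hX
  have hρY : Function.Bijective (Y.residue (f x)).hom :=
    residue_bijective_of_isField (Y.presheaf.stalk (f x)) hY
  have hsq : ∀ a, (f.residueFieldMap x).hom ((Y.residue (f x)).hom a) =
      (X.residue x).hom ((f.stalkMap x).hom a) := by
    intro a
    have := congrArg (fun φ => φ.hom a) (Scheme.residue_residueFieldMap f x)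
    exact this
  constructor
  · intro a b hab
    apply hρY.1
    apply hm.1
    rw [hsq, hsq, hab]
  · intro c
    obtain ⟨d, hd⟩ := hm.2 ((X.residue x).hom c)
    obtain ⟨a, ha⟩ := hρY.2 d
    refine ⟨a, hρX.1 ?_⟩
    rw [← hsq, ha, hd]

theorem universallyInjective_of_kpoints {k : Type u} [Field k] [IsAlgClosed k]
    {X Y : Scheme.{u}} (sX : X ⟶ Spec (CommRingCat.of k)) (sY : Y ⟶ Spec (CommRingCat.of k))
    [LocallyOfFiniteType sX] [IsSeparated sX]
    (f : X ⟶ Y) (hf : f ≫ sY = sX)
    (hinj : ∀ a b : Spec (CommRingCat.of k) ⟶ X, a ≫ sX = 𝟙 _ → b ≫ sX = 𝟙 _ →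
      a ≫ f = b ≫ f → a = b) :
    UniversallyInjective f := by
  haveI h1 : IsSeparated (f ≫ sY) := by rw [hf]; infer_instance
  haveI : IsSeparated f := IsSeparated.of_comp f sY
  haveI h2 : LocallyOfFiniteType (f ≫ sY) := by rw [hf]; infer_instance
  haveI : LocallyOfFiniteType f := locallyOfFiniteType_of_comp f sY
  rw [UniversallyInjective.iff_diagonal]
  refine ⟨fun z => ?_⟩
  by_contra hz
  have hcl : IsClosed (Set.range (pullback.diagonal f)) :=
    (pullback.diagonal f).isClosedEmbedding.isClosed_range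
  haveI : JacobsonSpace ((pullback f f : Scheme.{u}) : Type u) :=
    LocallyOfFiniteType.jacobsonSpace (pullback.fst f f ≫ sX)
  obtain ⟨w, hwW, hwcl⟩ := nonempty_inter_closedPoints (X := ((pullback f f : Scheme.{u}) : Type u))
    (Z := (Set.range (pullback.diagonal f))ᶜ) ⟨z, hz⟩ hcl.isOpen_compl.isLocallyClosed
  rw [mem_closedPoints_iff] at hwcl
  obtain ⟨c, hc⟩ : ∃ c : Spec (CommRingCat.of k) ⟶ pullback f f,
      c = pointOfClosedPoint (pullback.fst f f ≫ sX) w hwcl := ⟨_, rfl⟩
  have hc1 : c ≫ pullback.fst f f ≫ sX = 𝟙 _ := by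
    rw [hc]; exact pointOfClosedPoint_comp _ _ _
  have hc2 : c ≫ pullback.snd f f ≫ sX = 𝟙 _ := by
    rw [← hf, ← pullback.condition_assoc, hf]; exact hc1
  have hab : c ≫ pullback.fst f f = c ≫ pullback.snd f f :=
    hinj _ _ (by rw [Category.assoc]; exact hc1) (by rw [Category.assoc]; exact hc2)
      (by rw [Category.assoc, Category.assoc, pullback.condition])
  have hcd : c = (c ≫ pullback.fst f f) ≫ pullback.diagonal f := by
    apply pullback.hom_ext
    · simp
    · simpa using hab.symm
  have hcw : c (IsLocalRing.closedPoint k) = w := by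
    rw [hc]; exact pointOfClosedPoint_apply _ _ _ _
  apply hwW
  refine ⟨(c ≫ pullback.fst f f) (IsLocalRing.closedPoint k), ?_⟩
  rw [← hcw]
  conv_rhs => rw [hcd]
  rfl

/-- Integral elements descend along a birational dominant morphism to a normal scheme. -/
theorem exists_preimage_of_isIntegralElem {X Y : Scheme.{u}} [IsIntegral X] [IsIntegral Y]
    (f : X ⟶ Y) (hY : Pi1.IsNormalScheme Y) (η : Y) (hη : η = genericPoint Y) (ξ : X)
    (hfξ : f ξ = η)
    (σ : Y.presheaf.stalk η →+* X.presheaf.stalk ξ) (hσ : Function.Bijective σ)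
    (hcomp : ∀ (U : Y.Opens) (hηU : η ∈ U) (hξU : ξ ∈ f ⁻¹ᵁ U) (a : Γ(Y, U)),
      σ (Y.presheaf.germ U η hηU a) = X.presheaf.germ (f ⁻¹ᵁ U) ξ hξU (f.app U a))
    (U : Y.Opens) (hU : IsAffineOpen U)
    (b : Γ(X, f ⁻¹ᵁ U)) (hb : (f.app U).hom.IsIntegralElem b) :
    ∃ a : Γ(Y, U), (f.app U).hom a = b := by
  subst hη
  by_cases hηU : genericPoint Y ∈ U
  · have hξU : ξ ∈ f ⁻¹ᵁ U := by
      show f ξ ∈ U
      rw [hfξ]; exact hηU
    haveI : Nonempty U := ⟨⟨_, hηU⟩⟩
    haveI : IsIntegrallyClosed Γ(Y, U) := RatSec.isIntegrallyClosed_of_normal hY hU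
    haveI : IsFractionRing Γ(Y, U) Y.functionField :=
      functionField_isFractionRing_of_isAffineOpen Y U hU
    obtain ⟨p, hp, hpb⟩ := hb
    obtain ⟨gX, hgX⟩ : ∃ gX : Γ(X, f ⁻¹ᵁ U) →+* X.presheaf.stalk ξ,
        gX = (X.presheaf.germ (f ⁻¹ᵁ U) ξ hξU).hom := ⟨_, rfl⟩
    have hcomp' : ∀ a, σ (algebraMap Γ(Y, U) Y.functionField a) = gX ((f.app U).hom a) :=
      fun a => by rw [hgX]; exact hcomp U hηU hξU a
    have hinjX : Function.Injective gX := by
      rw [hgX]; exact germ_injective_of_isIntegral X ξ hξU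
    obtain ⟨c, hc⟩ := hσ.2 (gX b)
    have hint : IsIntegral Γ(Y, U) c := by
      refine ⟨p, hp, ?_⟩
      apply hσ.1
      rw [map_zero, Polynomial.hom_eval₂, hc]
      have h1 : σ.comp (algebraMap Γ(Y, U) Y.functionField) = gX.comp (f.app U).hom :=
        RingHom.ext hcomp'
      rw [h1, ← Polynomial.hom_eval₂, hpb, map_zero]
    obtain ⟨a, ha⟩ := IsIntegrallyClosed.isIntegral_iff.mp hint
    refine ⟨a, hinjX ?_⟩
    rw [← hcomp', ha, hc]
  · refine ⟨0, ?_⟩
    rw [map_zero]
    symm
    refine X.IsSheaf.section_ext fun x hx => ?_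
    exact absurd ((genericPoint_specializes (f x)).mem_open U.2 hx) hηU

theorem isIso_fromNormalization {X Y : Scheme.{u}} [IsIntegral X] [IsIntegral Y] (f : X ⟶ Y)
    [QuasiCompact f] [QuasiSeparated f] [IsDominant f] (hY : Pi1.IsNormalScheme Y)
    (η : Y) (hη : η = genericPoint Y) (ξ : X) (hfξ : f ξ = η)
    (σ : Y.presheaf.stalk η →+* X.presheaf.stalk ξ) (hσ : Function.Bijective σ)
    (hcomp : ∀ (U : Y.Opens) (hηU : η ∈ U) (hξU : ξ ∈ f ⁻¹ᵁ U) (a : Γ(Y, U)),
      σ (Y.presheaf.germ U η hηU a) = X.presheaf.germ (f ⁻¹ᵁ U) ξ hξU (f.app U a)) :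
    IsIso f.fromNormalization := by
  haveI : IsSchemeTheoreticallyDominant f := .of_isDominant f
  show MorphismProperty.isomorphisms Scheme f.fromNormalization
  rw [IsZariskiLocalAtTarget.iff_of_iSup_eq_top (P := MorphismProperty.isomorphisms Scheme) _
    (iSup_affineOpens_eq_top _)]
  intro U
  let e := IsOpenImmersion.isoOfRangeEq (f.fromNormalization ⁻¹ᵁ U).ι
      (f.normalizationOpenCover.f U)
      (by simpa using congr($(f.fromNormalization_preimage U).1))
  rw [← MorphismProperty.cancel_left_of_respectsIso (MorphismProperty.isomorphisms Scheme) e.inv,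
    ← MorphismProperty.cancel_right_of_respectsIso (MorphismProperty.isomorphisms Scheme) _
      U.2.isoSpec.hom]
  have hbij : Function.Bijective (f.normalizationDiagramMap.app (.op U.1)).hom := by
    letI := (f.app U.1).hom.toAlgebra
    show Function.Bijective (algebraMap Γ(Y, U.1) (integralClosure Γ(Y, U.1) Γ(X, f ⁻¹ᵁ U.1)))
    constructor
    · intro a a' h
      have h2 : (f.app U.1).hom a = (f.app U.1).hom a' := congrArg Subtype.val h
      exact f.app_injective U.1 h2
    · rintro ⟨b, hb⟩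
      obtain ⟨a, ha⟩ := exists_preimage_of_isIntegralElem f hY η hη ξ hfξ σ hσ hcomp U.1 U.2 b hb
      exact ⟨a, Subtype.ext ha⟩
  haveI : IsIso (f.normalizationDiagramMap.app (.op U.1)) :=
    (ConcreteCategory.isIso_iff_bijective _).mpr hbij
  have key : (e.inv ≫ f.fromNormalization ∣_ U.1) ≫ U.2.isoSpec.hom =
      Spec.map (f.normalizationDiagramMap.app (.op U.1)) := by
    rw [← cancel_mono U.2.fromSpec]
    simp [IsAffineOpen.isoSpec_hom, e, Scheme.Hom.ι_fromNormalization]
    rfl
  rw [key]
  exact inferInstanceAs (IsIso (Spec.map _))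

theorem main_S13425 {k : Type u} [Field k] [IsAlgClosed k] [CharZero k]
    {X Y : Scheme.{u}} (sX : X ⟶ Spec (CommRingCat.of k)) (sY : Y ⟶ Spec (CommRingCat.of k))
    [IsIntegral X] [IsIntegral Y] [IsSeparated sX] [IsSeparated sY]
    [LocallyOfFiniteType sX] [QuasiCompact sX] [LocallyOfFiniteType sY] [QuasiCompact sY]
    (hY : Pi1.IsNormalScheme Y)
    (f : X ⟶ Y) (hf : f ≫ sY = sX) [IsDominant f]
    (hinj : ∀ a b : Spec (CommRingCat.of k) ⟶ X, a ≫ sX = 𝟙 _ → b ≫ sX = 𝟙 _ →
      a ≫ f = b ≫ f → a = b) :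
    IsOpenImmersion f := by
  haveI : IsSeparated (f ≫ sY) := by rw [hf]; infer_instance
  haveI : IsSeparated f := IsSeparated.of_comp f sY
  haveI : LocallyOfFiniteType (f ≫ sY) := by rw [hf]; infer_instance
  haveI : LocallyOfFiniteType f := locallyOfFiniteType_of_comp f sY
  haveI : QuasiCompact (f ≫ sY) := by rw [hf]; infer_instance
  haveI : QuasiCompact f := QuasiCompact.of_comp f sY
  haveI hui : UniversallyInjective f := universallyInjective_of_kpoints sX sY f hf hinj
  obtain ⟨ξ, hξ⟩ : ∃ ξ : X, ξ = genericPoint X := ⟨_, rfl⟩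
  have hgenX : IsGenericPoint ξ (Set.univ : Set X) := hξ ▸ genericPoint_spec X
  have hgenY : IsGenericPoint (f ξ) (Set.univ : Set Y) := by
    have := hgenX.image f.continuous
    rwa [Set.image_univ, f.denseRange.closure_range] at this
  have hη : f ξ = genericPoint Y := hgenY.eq (genericPoint_spec Y)
  have hFX : IsField (X.presheaf.stalk ξ) :=
    isField_stalk_of_closure_mem_irreducibleComponents X ξ (by
      rw [irreducibleComponents_eq_singleton, Set.mem_singleton_iff]; exact hgenX.def)
  have hFY : IsField (Y.presheaf.stalk (f ξ)) :=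
    isField_stalk_of_closure_mem_irreducibleComponents Y (f ξ) (by
      rw [irreducibleComponents_eq_singleton, Set.mem_singleton_iff]; exact hgenY.def)
  have h02 := (tfae_universallyInjective f).out 0 2
  have hpi := (h02.mp hui).2 ξ
  have hbij : Function.Bijective (f.residueFieldMap ξ).hom := by
    let φ : k →+* Y.residueField (f ξ) :=
      ((Scheme.ΓSpecIso (CommRingCat.of k)).inv ≫ sY.appTop ≫ Y.Γevaluation (f ξ)).hom
    haveI : CharZero (Y.residueField (f ξ)) := charZero_of_injective_ringHom φ.injective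
    letI alg : Algebra (Y.residueField (f ξ)) (X.residueField ξ) :=
      (f.residueFieldMap ξ).hom.toAlgebra
    haveI : IsPurelyInseparable (Y.residueField (f ξ)) (X.residueField ξ) := hpi
    haveI : Algebra.IsSeparable (Y.residueField (f ξ)) (X.residueField ξ) :=
      Algebra.IsAlgebraic.isSeparable_of_perfectField
    exact IsPurelyInseparable.bijective_algebraMap_of_isSeparable _ _
  have hσ := stalkMap_bijective_of_residueFieldMap f ξ hFX hFY hbij
  haveI : IsIso f.fromNormalization :=
    isIso_fromNormalization f hY (f ξ) hη ξ rfl (f.stalkMap ξ).hom hσ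
      (fun U hηU hξU a => f.germ_stalkMap_apply U ξ hηU a)
  have h : IsOpenImmersion (f.toNormalization ≫ f.fromNormalization) := inferInstance
  rwa [f.toNormalization_fromNormalization] at h

end Groth.Agent.H8.InjOpen
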